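import Mathlib

/-!
Binary coset actions: the closure `hat x` of an element (everything fixing all fixed points of `x`)
and the triangle lemma.
-/

set_option autoImplicit false

namespace CfsgLib.Binary

variable {G : Type*} [Group G]

/-- Pairwise transporters give a global transporter. -/
def IsBinary (H : Subgroup G) : Prop :=
  ∀ (n : ℕ) (I J : Fin n → G ⧸ H), 2 ≤ n →
    (∀ i j : Fin n, i ≠ j → ∃ g : G, g • I i = J i ∧ g • I j = J j) → ∃ g : G, ∀ i, g • I i = J i

/-- The elements fixing every coset that `x` fixes. -/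
def hat (H : Subgroup G) (x : G) : Subgroup G where
  carrier := {g | ∀ ω : G ⧸ H, x • ω = ω → g • ω = ω}
  one_mem' := fun ω _ => one_smul G ω
  mul_mem' := fun {g h} hg hh ω hω => by rw [mul_smul, hh ω hω, hg ω hω]
  inv_mem' := fun {g} hg ω hω => inv_smul_eq_iff.2 (hg ω hω).symm

variable {H : Subgroup G}

theorem mem_hat {x g : G} : g ∈ hat H x ↔ ∀ ω : G ⧸ H, x • ω = ω → g • ω = ω := Iff.rfl

theorem self_mem_hat (H : Subgroup G) (x : G) : x ∈ hat H x := fun _ h => h

theorem smul_mk_eq_iff {g k : G} :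
    g • (QuotientGroup.mk k : G ⧸ H) = QuotientGroup.mk k ↔ k⁻¹ * g * k ∈ H := by
  rw [MulAction.Quotient.smul_mk, smul_eq_mul, eq_comm, QuotientGroup.eq, mul_assoc]

theorem conj_mem_of_mem_hat {x g k : G} (hx : k⁻¹ * x * k ∈ H) (hg : g ∈ hat H x) :
    k⁻¹ * g * k ∈ H :=
  smul_mk_eq_iff.1 (hg _ (smul_mk_eq_iff.2 hx))

theorem hat_le {x : G} (hx : x ∈ H) : hat H x ≤ H := fun g hg => by
  simpa using conj_mem_of_mem_hat (k := 1) (by simpa using hx) hg

theorem hat_le_of_mem {x y : G} (hy : y ∈ hat H x) : hat H y ≤ hat H x :=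
  fun _ hg ω hω => hg ω (hy ω hω)

theorem mem_hat_conj {x g k : G} :
    g ∈ hat H (k * x * k⁻¹) ↔ k⁻¹ * g * k ∈ hat H x := by
  constructor
  · intro hg ω hω
    have h : (k * x * k⁻¹) • k • ω = k • ω := by rw [smul_smul, inv_mul_cancel_right, mul_smul, hω]
    rw [mul_smul, mul_smul, hg _ h, inv_smul_smul]
  · intro hg ω hω
    have h : x • k⁻¹ • ω = k⁻¹ • ω := by
      rw [mul_smul, mul_smul] at hω
      exact eq_inv_smul_iff.2 hω
    have := hg _ h
    rw [mul_smul, mul_smul, smul_inv_smul] at this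
    exact smul_left_cancel _ this

theorem hat_conj (x k : G) :
    hat H (k * x * k⁻¹) = (hat H x).map (MulAut.conj k).toMonoidHom := by
  ext g
  rw [mem_hat_conj, Subgroup.mem_map_equiv]
  simp

theorem conj_mem_hat {x g : G} (k : G) (hg : g ∈ hat H x) : k * g * k⁻¹ ∈ hat H (k * x * k⁻¹) := by
  rw [mem_hat_conj]
  simpa [mul_assoc] using hg

theorem card_hat_conj (x k : G) : Nat.card (hat H (k * x * k⁻¹)) = Nat.card (hat H x) := by
  rw [hat_conj]
  exact Subgroup.card_map_of_injective (MulAut.conj k).injective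

/-- The centralizer of `x` normalizes `hat x`. -/
theorem centralizer_le_normalizer_hat (H : Subgroup G) (x : G) :
    Subgroup.centralizer ({x} : Set G) ≤ Subgroup.normalizer (hat H x : Set G) := by
  intro k hk
  rw [Subgroup.mem_centralizer_singleton_iff] at hk
  rw [Subgroup.mem_normalizer_iff]
  intro g
  have e : k * x * k⁻¹ = x := by rw [hk, mul_inv_cancel_right]
  constructor
  · intro hg
    simpa [e] using conj_mem_hat k hg
  · intro hg
    rw [← e, mem_hat_conj] at hg
    simpa [mul_assoc] using hg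

/-- Conjugate elements with nested closures have equal closures. -/
theorem hat_eq_of_mem [Finite G] {x y k : G} (hk : k * x * k⁻¹ = y) (hy : y ∈ hat H x) :
    hat H y = hat H x :=
  Subgroup.eq_of_le_of_card_ge (hat_le_of_mem hy) (by rw [← hk, card_hat_conj])

/-- The triangle lemma for a binary action. -/
theorem IsBinary.exists_hat [Finite G] (hb : IsBinary H) {a b c : G} (e : a = b * c) :
    ∃ g : G, g ∈ hat H a ∧ g ∈ hat H b ∧ g⁻¹ * a ∈ hat H c := by
  classical
  let ι := ({ω : G ⧸ H // a • ω = ω} ⊕ {ω : G ⧸ H // b • ω = ω}) ⊕ {ω : G ⧸ H // c • ω = ω}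
  let P : ι → G ⧸ H := Sum.elim (Sum.elim Subtype.val Subtype.val) Subtype.val
  let Q : ι → G ⧸ H := Sum.elim (Sum.elim Subtype.val Subtype.val) (fun w => a • w.1)
  have wit : ∀ i j : ι, ∃ g : G, g • P i = Q i ∧ g • P j = Q j := by
    have hC : ∀ w : {ω : G ⧸ H // c • ω = ω}, b • w.1 = a • w.1 := fun w => by
      rw [e, mul_smul, w.2]
    rintro ((u | u) | u) ((v | v) | v)
    all_goals first
      | exact ⟨1, one_smul G _, one_smul G _⟩
      | exact ⟨a, u.2, v.2⟩
      | exact ⟨a, u.2, rfl⟩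
      | exact ⟨a, rfl, v.2⟩
      | exact ⟨a, rfl, rfl⟩
      | exact ⟨b, u.2, hC v⟩
      | exact ⟨b, hC u, v.2⟩
  rcases isEmpty_or_nonempty ι with hι | hι
  · refine ⟨1, one_mem _, one_mem _, fun ω hω => ?_⟩
    exact (hι.false (Sum.inr ⟨ω, hω⟩)).elim
  let f := (Finite.equivFin (ι ⊕ ι)).symm
  obtain ⟨g, hg⟩ := hb _ (fun i => Sum.elim P P (f i)) (fun i => Sum.elim Q Q (f i))
    (by rw [Nat.card_sum]; have := Nat.card_pos (α := ι); omega) (fun i j _ => by
      rcases f i with u | u <;> rcases f j with v | v <;> exact wit u v)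
  have hg' : ∀ u : ι, g • P u = Q u := fun u => by
    have := hg (f.symm (Sum.inl u))
    simpa using this
  refine ⟨g, fun ω hω => hg' (Sum.inl (Sum.inl ⟨ω, hω⟩)), fun ω hω => hg' (Sum.inl (Sum.inr ⟨ω, hω⟩)),
    fun ω hω => ?_⟩
  rw [mul_smul, inv_smul_eq_iff]
  exact (hg' (Sum.inr ⟨ω, hω⟩)).symm

end CfsgLib.Binary
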