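import Mathlib
import Cfsg.Agent.Lib.Binary.Hat

/-!
Binary actions whose stabilizers consist of involutions; transport of binarity.
-/

set_option autoImplicit false

namespace CfsgLib.Binary

theorem binary_bot' {G : Type*} [Group G] : IsBinary (⊥ : Subgroup G) := by
  intro n I J hn h
  let i0 : Fin n := ⟨0, by omega⟩
  let i1 : Fin n := ⟨1, by omega⟩
  obtain ⟨g, hg0, -⟩ := h i0 i1 (by simp [i0, i1, Fin.ext_iff])
  refine ⟨g, fun i => ?_⟩
  by_cases hi : i = i0
  · rw [hi]; exact hg0
  obtain ⟨g', h0, hi'⟩ := h i0 i (fun e => hi e.symm)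
  have e : (g⁻¹ * g') • I i0 = I i0 := by rw [mul_smul, h0, ← hg0, inv_smul_smul]
  obtain ⟨k, hk⟩ := QuotientGroup.mk_surjective (I i0)
  rw [← hk] at e
  have := smul_mk_eq_iff.1 e
  rw [Subgroup.mem_bot] at this
  have h2 : g⁻¹ * g' = 1 := by
    calc g⁻¹ * g' = k * (k⁻¹ * (g⁻¹ * g') * k) * k⁻¹ := by group
      _ = 1 := by rw [this]; group
  rw [inv_mul_eq_one.1 h2]
  exact hi'

/-- Binarity only depends on the pair of a group and a subgroup up to isomorphism. -/
theorem IsBinary.map {G L : Type*} [Group G] [Group L] (e : G ≃* L) {H : Subgroup G}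
    (hb : IsBinary H) : IsBinary (H.map e.toMonoidHom) := by
  let f : L ⧸ H.map e.toMonoidHom → G ⧸ H := fun ω =>
    Quotient.liftOn' ω (fun y => QuotientGroup.mk (e.symm y)) (fun y z h => by
      rw [QuotientGroup.leftRel_apply, Subgroup.mem_map_equiv, map_mul, map_inv] at h
      exact QuotientGroup.eq.2 h)
  have hf : ∀ (y : L) ω, f (y • ω) = e.symm y • f ω := by
    intro y ω
    induction ω using Quotient.inductionOn' with
    | h z =>
      show QuotientGroup.mk (e.symm (y * z)) = _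
      rw [map_mul]
      rfl
  have finj : Function.Injective f := by
    intro a b h
    induction a using Quotient.inductionOn' with
    | h y =>
      induction b using Quotient.inductionOn' with
      | h z =>
        refine Quotient.sound' ?_
        rw [QuotientGroup.leftRel_apply, Subgroup.mem_map_equiv, map_mul, map_inv]
        exact QuotientGroup.eq.1 h
  intro n I J hn h
  obtain ⟨g, hg⟩ := hb n (f ∘ I) (f ∘ J) hn (fun i j hij => by
    obtain ⟨y, hi, hj⟩ := h i j hij
    exact ⟨e.symm y, by show e.symm y • f (I i) = f (J i); rw [← hf, hi],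
      by show e.symm y • f (I j) = f (J j); rw [← hf, hj]⟩)
  refine ⟨e g, fun i => finj ?_⟩
  rw [hf, e.symm_apply_apply]
  exact hg i

/-- Stabilizers of exponent two which absorb the commuting elements of their conjugates give binary
actions. -/
theorem binary_of_involutions {G : Type*} [Group G] [Finite G] {H : Subgroup G}
    (hexp : ∀ h ∈ H, h * h = 1)
    (hcl : ∀ x ∈ H, x ≠ 1 → ∀ y k : G, k⁻¹ * y * k ∈ H → y * x = x * y → y ∈ H) : IsBinary H := by
  classical
  let K : G ⧸ H → Subgroup G := fun ω => MulAction.stabilizer G ω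
  have hK : ∀ (ω : G ⧸ H) (g : G), g ∈ K ω ↔ ω.out⁻¹ * g * ω.out ∈ H := by
    intro ω g
    rw [← smul_mk_eq_iff, QuotientGroup.out_eq']
    exact Iff.rfl
  have hexp' : ∀ {ω x}, x ∈ K ω → x * x = 1 := by
    intro ω x hx
    have h := hexp _ ((hK _ _).1 hx)
    calc x * x = ω.out * (ω.out⁻¹ * x * ω.out * (ω.out⁻¹ * x * ω.out)) * ω.out⁻¹ := by group
      _ = 1 := by rw [h]; group
  have hcl' : ∀ {ω ω' x y}, x ∈ K ω → x ≠ 1 → y ∈ K ω' → y * x = x * y → y ∈ K ω := by
    intro ω ω' x y hx hx1 hy hc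
    rw [hK] at hx hy ⊢
    refine hcl _ hx (fun e => hx1 ?_) _ (ω.out⁻¹ * ω'.out) ?_ ?_
    · calc x = ω.out * (ω.out⁻¹ * x * ω.out) * ω.out⁻¹ := by group
        _ = 1 := by rw [e]; group
    · simpa [mul_assoc] using hy
    · calc ω.out⁻¹ * y * ω.out * (ω.out⁻¹ * x * ω.out) = ω.out⁻¹ * (y * x) * ω.out := by group
        _ = ω.out⁻¹ * (x * y) * ω.out := by rw [hc]
        _ = _ := by group
  have hTI : ∀ {ω ω' x y}, x ∈ K ω → x ≠ 1 → y ∈ K ω' → y ≠ 1 → y * x = x * y → K ω = K ω' := by
    intro ω ω' x y hx hx1 hy hy1 hc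
    have hyω := hcl' hx hx1 hy hc
    have comm : ∀ {ν a b}, a ∈ K ν → b ∈ K ν → b * a = a * b := by
      intro ν a b ha hb
      have h := hexp' (mul_mem ha hb)
      calc b * a = (a * a) * (b * a) * (b * b) := by rw [hexp' ha, hexp' hb, one_mul, mul_one]
        _ = a * (a * b * (a * b)) * b := by group
        _ = a * b := by rw [h, mul_one]
    exact le_antisymm (fun b hb => hcl' hy hy1 hb (comm hyω hb))
      (fun b hb => hcl' hyω hy1 hb (comm hy hb))
  intro n I J hn h
  let i0 : Fin n := ⟨0, by omega⟩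
  let i1 : Fin n := ⟨1, by omega⟩
  have mk : ∀ {g g' : G} {i : Fin n}, g • I i = J i → g' • I i = J i → g⁻¹ * g' ∈ K (I i) := by
    intro g g' i e e'
    show (g⁻¹ * g') • I i = I i
    rw [mul_smul, e', ← e, inv_smul_smul]
  by_cases hall : ∀ i, K (I i) = K (I i0)
  · obtain ⟨g, hg0, -⟩ := h i0 i1 (by simp [i0, i1, Fin.ext_iff])
    refine ⟨g, fun i => ?_⟩
    by_cases hi : i = i0
    · rw [hi]; exact hg0
    obtain ⟨g', h0, hi'⟩ := h i0 i (fun e => hi e.symm)
    have hm' := mk h0 hg0
    rw [← hall i] at hm'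
    have hm : (g'⁻¹ * g) • I i = I i := hm'
    rw [mul_smul, inv_smul_eq_iff, hi'] at hm
    exact hm
  · push Not at hall
    obtain ⟨m, hm⟩ := hall
    have hm0 : i0 ≠ m := fun e => hm (by rw [e])
    obtain ⟨g, hg0, hgm⟩ := h i0 m hm0
    refine ⟨g, fun i => ?_⟩
    by_cases hi0 : i = i0
    · rw [hi0]; exact hg0
    by_cases him : i = m
    · rw [him]; exact hgm
    obtain ⟨a, ha0, hai⟩ := h i0 i (fun e => hi0 e.symm)
    obtain ⟨b, hbm, hbi⟩ := h m i (fun e => him e.symm)
    set x := g⁻¹ * a with hx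
    have hx0 : x ∈ K (I i0) := mk hg0 ha0
    set y := g⁻¹ * b with hy
    have hym : y ∈ K (I m) := mk hgm hbm
    have hz : a⁻¹ * b ∈ K (I i) := mk hai hbi
    suffices hxi : x ∈ K (I i) by
      have e : x • I i = I i := hxi
      rw [hx, mul_smul, inv_smul_eq_iff, hai] at e
      exact e.symm
    by_cases hx1 : x = 1
    · rw [hx1]; exact one_mem _
    set z := a⁻¹ * b with hzdef
    have exz : x * z = y := by rw [hx, hy, hzdef]; group
    by_cases hy1 : y = 1
    · rw [eq_inv_of_mul_eq_one_left (exz.trans hy1)]; exact inv_mem hz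
    exfalso
    refine hm (hTI hym hy1 hx0 hx1 ?_)
    have hzy : z = x * y := by
      rw [← exz, ← mul_assoc, hexp' hx0, one_mul]
    have h2 := hexp' hz
    rw [hzy] at h2
    calc x * y = x * (x * y * (x * y)) * y := by rw [h2, mul_one]
      _ = (x * x) * (y * x) * (y * y) := by group
      _ = y * x := by rw [hexp' hx0, hexp' hym, one_mul, mul_one]

end CfsgLib.Binary
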